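import Groth.Agent.ASCover.K804.Fin

set_option autoImplicit false
universe u

namespace K804.AS

/-- the index set for the derivative map. -/
def J2 (p n : ℕ) : Finset ℕ :=
  (Finset.Icc 1 n).filter (fun m : ℕ => ¬ (p : ℤ) ∣ ((n : ℤ) + 1) - (m : ℤ) ∧ ¬ (p : ℤ) ∣ 1 - (m : ℤ))

theorem card_J2 (p n : ℕ) (hp : 1 < p) (hn : 0 < n) (hpn : ¬ p ∣ n) :
    ((J2 p n).card : ℤ) = (((n : ℤ) + 1) * ((p : ℤ) - 1)) / p - 1 - ((n : ℤ) - 1) / p := by
  have hp' : (0 : ℤ) < p := by exact_mod_cast (by omega : 0 < p)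
  set A := (Finset.Icc 1 n).filter (fun m : ℕ => (p : ℤ) ∣ ((n : ℤ) + 1) - (m : ℤ)) with hA
  set B := (Finset.Icc 1 n).filter (fun m : ℕ => (p : ℤ) ∣ 1 - (m : ℤ)) with hB
  have hdisj : Disjoint A B := by
    rw [Finset.disjoint_left]
    intro m hmA hmB
    rw [hA, Finset.mem_filter] at hmA
    rw [hB, Finset.mem_filter] at hmB
    apply hpn
    have : (p : ℤ) ∣ (n : ℤ) := by
      have := dvd_sub hmA.2 hmB.2
      have e : ((n : ℤ) + 1 - m) - (1 - m) = n := by ring
      rwa [e] at this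
    exact_mod_cast this
  have hJ : J2 p n = Finset.Icc 1 n \ (A ∪ B) := by
    ext m
    simp only [J2, Finset.mem_filter, Finset.mem_sdiff, Finset.mem_union, hA, hB]
    tauto
  have hsub : A ∪ B ⊆ Finset.Icc 1 n :=
    Finset.union_subset (Finset.filter_subset _ _) (Finset.filter_subset _ _)
  have hcard : (J2 p n).card + (A.card + B.card) = n := by
    rw [hJ, ← Finset.card_union_of_disjoint hdisj, Finset.card_sdiff_add_card_eq_card hsub,
      Nat.card_Icc]
    omega
  have hcA := card_dvd p (by omega) ((n : ℤ) + 1) n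
  have hcB := card_dvd p (by omega) 1 n
  rw [← hA] at hcA
  rw [← hB] at hcB
  have e1 : ((n : ℤ) + 1 - 1) = n := by ring
  have e2 : ((n : ℤ) + 1 - 1 - n) = 0 := by ring
  have e3 : ((1 : ℤ) - 1) = 0 := by ring
  have e4 : ((1 : ℤ) - 1 - n) = -n := by ring
  rw [e1, sub_self, Int.zero_ediv, sub_zero] at hcA
  rw [e4, e3, Int.zero_ediv, zero_sub] at hcB
  -- quotient and remainder of `n`
  set q := (n : ℤ) / p with hq
  set r := (n : ℤ) % p with hr
  have hqr : (n : ℤ) = r + q * p := by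
    rw [hq, hr]
    have := Int.emod_add_mul_ediv (n : ℤ) p
    linarith
  have hr0 : r ≠ 0 := by
    intro h0
    apply hpn
    have : (p : ℤ) ∣ n := Int.dvd_of_emod_eq_zero h0
    exact_mod_cast this
  have hr1 : 0 ≤ r := Int.emod_nonneg _ hp'.ne'
  have hr2 : r < p := Int.emod_lt_of_pos _ hp'
  have f1 : (-(n : ℤ)) / p = -q - 1 := by
    have : -(n : ℤ) = (p - r) + (-q - 1) * p := by rw [hqr]; ring
    rw [this, Int.add_mul_ediv_right _ _ hp'.ne', Int.ediv_eq_zero_of_lt (by omega) (by omega), zero_add]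
  have f2 : ((n : ℤ) - 1) / p = q := by
    have : (n : ℤ) - 1 = (r - 1) + q * p := by rw [hqr]; ring
    rw [this, Int.add_mul_ediv_right _ _ hp'.ne', Int.ediv_eq_zero_of_lt (by omega) (by omega), zero_add]
  have f3 : (((n : ℤ) + 1) * ((p : ℤ) - 1)) / p = n - q := by
    have : ((n : ℤ) + 1) * ((p : ℤ) - 1) = (p - 1 - r) + (n - q) * p := by
      linear_combination (-1 : ℤ) * hqr
    rw [this, Int.add_mul_ediv_right _ _ hp'.ne', Int.ediv_eq_zero_of_lt (by omega) (by omega), zero_add]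
  rw [f1] at hcB
  rw [f2, f3]
  have hcard' : ((J2 p n).card : ℤ) + (A.card + B.card) = n := by exact_mod_cast hcard
  linarith

end K804.AS
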