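import Mathlib.RepresentationTheory.Homological.GroupCohomology.LowDegree
import Mathlib.RepresentationTheory.Homological.GroupCohomology.Functoriality
import Mathlib.GroupTheory.OrderOfElement
import Mathlib.Tactic

set_option autoImplicit false
universe u

open CategoryTheory groupCohomology

namespace K804.Cyc

noncomputable section

variable {k G : Type u} [Field k] [Group G] [Finite G] (g : G)
  (hg : ∀ x : G, x ∈ Subgroup.zpowers g)

section

variable {V : Type u} [AddCommGroup V] [Module k V] (ρ : Representation k G V)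

/-- `∑_{i<m} g^i z`. -/
def partialSum (z : V) (m : ℕ) : V := ∑ i ∈ Finset.range m, ((ρ g) ^ i) z

omit [Finite G] in
theorem partialSum_add (z : V) (m m' : ℕ) :
    partialSum g ρ z (m + m') = partialSum g ρ z m + ((ρ g) ^ m) (partialSum g ρ z m') := by
  rw [partialSum, Finset.sum_range_add, partialSum, partialSum, map_sum]
  congr 1
  refine Finset.sum_congr rfl fun i _ => ?_
  rw [pow_add, Module.End.mul_apply]

include hg

theorem exists_nat_pow (x : G) : ∃ m : ℕ, g ^ m = x := by
  have h := hg x
  rw [← mem_powers_iff_mem_zpowers] at h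
  exact h

theorem orderOf_eq : orderOf g = Nat.card G := orderOf_eq_card_of_forall_mem_zpowers hg

/-- a cocycle is determined by its value at the generator. -/
theorem cocycle_pow (f : cocycles₁ (Rep.of ρ)) (m : ℕ) :
    f (g ^ m) = partialSum g ρ (f g) m := by
  induction m with
  | zero => rw [pow_zero, cocycles₁_map_one]; simp [partialSum]
  | succ m ih =>
    have h1 := (mem_cocycles₁_iff (A := Rep.of ρ) f).mp f.2 (g ^ m) g
    rw [pow_succ, h1, ih, partialSum, partialSum, Finset.sum_range_succ, add_comm]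
    congr 1
    change ρ (g ^ m) (f g) = _
    rw [map_pow]

theorem partialSum_card (f : cocycles₁ (Rep.of ρ)) : partialSum g ρ (f g) (Nat.card G) = 0 := by
  rw [← cocycle_pow g hg ρ f, ← orderOf_eq g hg, pow_orderOf_eq_one, cocycles₁_map_one]

theorem partialSum_congr (z : V) (hz : partialSum g ρ z (Nat.card G) = 0) {m m' : ℕ}
    (h : g ^ m = g ^ m') : partialSum g ρ z m = partialSum g ρ z m' := by
  have hper : ∀ m, partialSum g ρ z (m + Nat.card G) = partialSum g ρ z m := by
    intro m
    rw [partialSum_add, hz, map_zero, add_zero]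
  have hper2 : ∀ q m, partialSum g ρ z (m + q * Nat.card G) = partialSum g ρ z m := by
    intro q
    induction q with
    | zero => intro m; simp
    | succ q ih => intro m; rw [Nat.succ_mul, ← add_assoc, hper, ih]
  have hmod : ∀ m, partialSum g ρ z m = partialSum g ρ z (m % Nat.card G) := by
    intro m
    conv_lhs => rw [← Nat.mod_add_div m (Nat.card G), mul_comm (Nat.card G), hper2]
  rw [pow_eq_pow_iff_modEq, orderOf_eq g hg] at h
  rw [hmod m, hmod m', h]

open Classical in
/-- every element of norm zero is the value of a cocycle. -/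
theorem exists_cocycle (z : V) (hz : partialSum g ρ z (Nat.card G) = 0) :
    ∃ f : cocycles₁ (Rep.of ρ), f g = z := by
  choose m hm using exists_nat_pow g hg
  have hF : ∀ a : ℕ, partialSum g ρ z (m (g ^ a)) = partialSum g ρ z a := fun a =>
    partialSum_congr g hg ρ z hz (hm (g ^ a))
  refine ⟨⟨fun x => partialSum g ρ z (m x), ?_⟩, ?_⟩
  · rw [mem_cocycles₁_iff]
    intro x y
    obtain ⟨a, rfl⟩ := exists_nat_pow g hg x
    obtain ⟨b, rfl⟩ := exists_nat_pow g hg y
    change partialSum g ρ z (m (g ^ a * g ^ b)) = ρ (g ^ a) (partialSum g ρ z (m (g ^ b))) +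
      partialSum g ρ z (m (g ^ a))
    rw [← pow_add, hF, hF, hF, partialSum_add, map_pow, add_comm]
  · change partialSum g ρ z (m g) = z
    have := hF 1
    rw [pow_one] at this
    rw [this]
    simp [partialSum]

/-- coboundaries are detected at the generator. -/
theorem mem_coboundaries_iff (f : cocycles₁ (Rep.of ρ)) :
    (f : G → V) ∈ coboundaries₁ (Rep.of ρ) ↔ f g ∈ LinearMap.range (ρ g - LinearMap.id) := by
  constructor
  · rintro ⟨v, hv⟩
    refine ⟨v, ?_⟩
    have := congrFun hv g
    rw [← this]
    rfl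
  · rintro ⟨v, hv⟩
    let d : cocycles₁ (Rep.of ρ) := ⟨_, d₀₁_apply_mem_cocycles₁ (A := Rep.of ρ) v⟩
    have hd : ∀ x, d x = ρ x v - v := fun x => rfl
    have h1 : (f : G → V) = d := by
      funext x
      obtain ⟨a, rfl⟩ := exists_nat_pow g hg x
      have e1 := cocycle_pow g hg ρ f a
      have e2 := cocycle_pow g hg ρ d a
      have e3 : f g = d g := by
        rw [hd, ← hv]; rfl
      rw [e3, ← e2] at e1
      exact e1
    rw [h1]
    exact ⟨v, rfl⟩

/-- dimension of a subspace of `H^1` of a cyclic group from an explicit basis of classes. -/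
theorem finrank_submodule (J : Finset ℕ) (c : ℕ → V)
    (hc : ∀ j ∈ J, partialSum g ρ (c j) (Nat.card G) = 0)
    (hind : ∀ coef : ℕ → k, (∑ j ∈ J, coef j • c j) ∈ LinearMap.range (ρ g - LinearMap.id) →
      ∀ j ∈ J, coef j = 0)
    (W : Submodule k (H1 (Rep.of ρ)))
    (hW1 : ∀ j ∈ J, ∀ f : cocycles₁ (Rep.of ρ), f g = c j → H1π (Rep.of ρ) f ∈ W)
    (hW2 : ∀ f : cocycles₁ (Rep.of ρ), H1π (Rep.of ρ) f ∈ W →
      ∃ coef : ℕ → k, f g - (∑ j ∈ J, coef j • c j) ∈ LinearMap.range (ρ g - LinearMap.id)) :
    Module.Finite k W ∧ Module.finrank k W = J.card := by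
  classical
  have hex : ∀ j : J, ∃ f : cocycles₁ (Rep.of ρ), f g = c j := fun j =>
    exists_cocycle g hg ρ (c j) (hc j j.2)
  choose f hf using hex
  let F : (J → k) →ₗ[k] cocycles₁ (Rep.of ρ) := Fintype.linearCombination k f
  have hFg : ∀ a : J → k, (F a) g = ∑ j : J, a j • c j := by
    intro a
    have h1 : ∀ x : cocycles₁ (Rep.of ρ), x g =
        (LinearMap.proj g ∘ₗ (cocycles₁ (Rep.of ρ)).subtype) x := fun x => rfl
    rw [h1, Fintype.linearCombination_apply, map_sum]
    refine Finset.sum_congr rfl fun j _ => ?_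
    rw [map_smul, ← h1, hf]
  let E : (J → k) →ₗ[k] H1 (Rep.of ρ) := (H1π (Rep.of ρ)).hom ∘ₗ F
  have hsum : ∀ a : J → k, ∃ coef : ℕ → k, (∀ j : J, coef j = a j) ∧
      ∑ j : J, a j • c j = ∑ j ∈ J, coef j • c j := by
    intro a
    refine ⟨fun j => if h : j ∈ J then a ⟨j, h⟩ else 0, fun j => by simp, ?_⟩
    rw [← Finset.sum_coe_sort J]
    refine Finset.sum_congr rfl fun j _ => ?_
    simp
  have hEinj : Function.Injective E := by
    rw [injective_iff_map_eq_zero]
    intro a ha
    have h1 : (F a : G → V) ∈ coboundaries₁ (Rep.of ρ) := (H1π_eq_zero_iff (A := Rep.of ρ) (F a)).mp ha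
    rw [mem_coboundaries_iff g hg ρ, hFg] at h1
    obtain ⟨coef, hcoef, hs⟩ := hsum a
    rw [hs] at h1
    funext j
    rw [← hcoef j]
    exact hind coef h1 j j.2
  have hrange : LinearMap.range E = W := by
    apply le_antisymm
    · rintro _ ⟨a, rfl⟩
      change (H1π (Rep.of ρ)).hom (F a) ∈ W
      rw [Fintype.linearCombination_apply, map_sum]
      refine W.sum_mem fun j _ => ?_
      rw [map_smul]
      exact W.smul_mem _ (hW1 j j.2 (f j) (hf j))
    · intro w hw
      induction w using H1_induction_on with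
      | h x =>
        obtain ⟨coef, hcoef⟩ := hW2 x hw
        refine ⟨fun j => coef j, ?_⟩
        have h2 : H1π (Rep.of ρ) (x - F (fun j => coef j)) = 0 := by
          rw [H1π_eq_zero_iff, mem_coboundaries_iff g hg ρ]
          have h3 : (x - F (fun j => coef j) : cocycles₁ (Rep.of ρ)) g =
              x g - (F (fun j => coef j)) g := rfl
          rw [h3, hFg]
          have h4 : ∑ j : J, coef j • c j = ∑ j ∈ J, coef j • c j :=
            Finset.sum_coe_sort J (fun j => coef j • c j)
          rw [h4]
          exact hcoef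
        rw [map_sub, sub_eq_zero] at h2
        exact h2.symm
  rw [← hrange]
  refine ⟨inferInstance, ?_⟩
  rw [LinearMap.finrank_range_of_inj hEinj, Module.finrank_fintype_fun_eq_card, Fintype.card_coe]

end

end

end K804.Cyc
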