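import Groth.Agent.ASCover.K804.Fin
import Mathlib.RingTheory.PowerSeries.Derivative

set_option autoImplicit false
universe u

namespace K804.AS

open PowerSeries

noncomputable section

variable {k : Type u} [Field k] (U : (PowerSeries k)ˣ) {n : ℕ}

section basic

variable (hn0 : 0 < n) (hn : (n : k) ≠ 0) (hU1 : constantCoeff (U : PowerSeries k) = 1)
    (hUn : (U : PowerSeries k) ^ n * (1 + X ^ n) = 1)

include hn0 hn hUn

/-- `t u' + u = u^(n+1)`. -/
theorem X_mul_deriv : X * derivative k (U : PowerSeries k) + (U : PowerSeries k) = (U : PowerSeries k) ^ (n + 1) := by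
  have h1 := congrArg (derivative k) hUn
  obtain ⟨m, rfl⟩ : ∃ m, n = m + 1 := ⟨n - 1, by omega⟩
  rw [Derivation.leibniz, map_add, Derivation.leibniz_pow, Derivation.leibniz_pow,
    Derivation.map_one_eq_zero, zero_add, derivative_X] at h1
  simp only [Nat.add_sub_cancel, smul_eq_mul, mul_one, nsmul_eq_mul] at h1
  have hnC : ((m + 1 : ℕ) : PowerSeries k) ≠ 0 := by
    intro h0
    apply hn
    have := congrArg constantCoeff h0
    simpa using this
  apply mul_left_cancel₀ hnC
  have h2 : (((m + 1 : ℕ) : PowerSeries k)) * ((U : PowerSeries k) ^ (m + 1) * (1 + X ^ (m + 1)) *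
      (X * derivative k (U : PowerSeries k)) + (U : PowerSeries k) ^ (m + 1 + 1) * X ^ (m + 1)) = 0 := by
    linear_combination (U : PowerSeries k) * X * h1
  rw [hUn, one_mul] at h2
  linear_combination h2 - ((m + 1 : ℕ) : PowerSeries k) * (U : PowerSeries k) * hUn

include hU1

/-- the derivative of the explicit cocycles. -/
theorem deriv_cc (m : ℕ) (hm : m < n) :
    derivative k (cc U n 0 m) = - (m : k) • cc U n (n + 1) (m + 1) := by
  have h1 := X_pow_mul_cc U hn0 hn hU1 hUn 0 m hm.le
  have h2 := X_pow_mul_cc U hn0 hn hU1 hUn (n + 1) (m + 1) hm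
  have h3 := X_mul_deriv U hn0 hn hUn
  set c := cc U n 0 m with hc
  set c' := cc U n (n + 1) (m + 1) with hc'
  set u : PowerSeries k := (U : PowerSeries k) with hu
  have hu0 : u ≠ 0 := U.ne_zero
  -- clear denominators
  have e1 : (X * u) ^ m * c = 1 - u ^ m := by
    have : ((U ^ (0 - (m : ℤ)) : (PowerSeries k)ˣ) : PowerSeries k) * u ^ m = 1 := by
      rw [hu, ← Units.val_pow_eq_pow_val, ← Units.val_mul, ← zpow_natCast, ← zpow_add]
      simp
    rw [mul_pow]
    linear_combination u ^ m * h1 + this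
  have e2 : (X * u) ^ (m + 1) * c' = u ^ (n + 1) - u ^ (m + 1) := by
    have : ((U ^ ((n : ℤ) + 1 - ((m + 1 : ℕ) : ℤ)) : (PowerSeries k)ˣ) : PowerSeries k) * u ^ (m + 1) =
        u ^ (n + 1) := by
      rw [hu, ← Units.val_pow_eq_pow_val, ← Units.val_mul, ← Units.val_pow_eq_pow_val, ← zpow_natCast,
        ← zpow_add, ← zpow_natCast]
      congr 2
      push_cast
      ring
    rw [mul_pow]
    linear_combination u ^ (m + 1) * h2 + this
  have e3 := congrArg (derivative k) e1
  rw [Derivation.leibniz, map_sub, Derivation.leibniz_pow, Derivation.leibniz_pow,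
    Derivation.leibniz] at e3
  have e0 : derivative k (1 : PowerSeries k) = 0 := Derivation.map_one_eq_zero _
  have eX : derivative k (X : PowerSeries k) = 1 := derivative_X
  rw [e0, eX] at e3
  simp only [smul_eq_mul, mul_one, nsmul_eq_mul] at e3
  apply mul_left_cancel₀ (pow_ne_zero (m + 1) (mul_ne_zero (X_ne_zero (R := k)) hu0))
  have e4 : (X * u) ^ (m + 1) * (- (m : k) • c') = - (m : PowerSeries k) * (u ^ (n + 1) - u ^ (m + 1)) := by
    rw [← e2, smul_eq_C_mul]
    have : (C (-(m : k)) : PowerSeries k) = - (m : PowerSeries k) := by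
      rw [map_neg, map_natCast]
    rw [this]
    ring
  rw [e4]
  rcases Nat.eq_zero_or_pos m with h0 | h0
  · subst h0
    simp only [pow_zero, Nat.cast_zero, zero_mul, mul_zero, sub_self, neg_zero, one_mul, add_zero] at e3 ⊢
    rw [e3, mul_zero]
  · obtain ⟨j, rfl⟩ := Nat.exists_eq_succ_of_ne_zero h0.ne'
    simp only [Nat.succ_eq_add_one, Nat.add_sub_cancel] at *
    have e5 : (X * u) ^ (j + 1) * derivative k c + ((j + 1 : ℕ) : PowerSeries k) * (X * u) ^ j *
        (u ^ (n + 1)) * c = - (((j + 1 : ℕ) : PowerSeries k) * u ^ j * derivative k u) := by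
      rw [← h3]
      linear_combination e3
    linear_combination (X * u) * e5 - (((j + 1 : ℕ) : PowerSeries k) * u ^ (n + 1)) * e1 -
      (((j + 1 : ℕ) : PowerSeries k)) * u ^ (j + 1) * h3

end basic

end

end K804.AS
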