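import Groth.Agent.ASCover.K804.Main
import Mathlib.RingTheory.Ideal.Quotient.Operations

set_option autoImplicit false
universe u

namespace K804.AS

open PowerSeries

noncomputable section

variable {k : Type u} [Field k] (U : (PowerSeries k)ˣ) {n : ℕ}

section basic

variable (hn0 : 0 < n) (hn : (n : k) ≠ 0) (hU1 : constantCoeff (U : PowerSeries k) = 1)
    (hUn : (U : PowerSeries k) ^ n * (1 + X ^ n) = 1)

/-- congruence to `1` mod `t^n` of units, as a condition in the quotient ring. -/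
theorem map_eq_one_iff (V : (PowerSeries k)ˣ) :
    Units.map (Ideal.Quotient.mk (Ideal.span {(X : PowerSeries k) ^ n})).toMonoidHom V = 1 ↔
      X ^ n ∣ (V : PowerSeries k) - 1 := by
  rw [Units.ext_iff]
  change Ideal.Quotient.mk _ (V : PowerSeries k) = 1 ↔ _
  rw [← map_one (Ideal.Quotient.mk (Ideal.span {(X : PowerSeries k) ^ n})), Ideal.Quotient.eq,
    Ideal.mem_span_singleton]

theorem zpow_congr (V : (PowerSeries k)ˣ) (hV : X ^ n ∣ (V : PowerSeries k) - 1) (e : ℤ) :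
    X ^ n ∣ ((V ^ e : (PowerSeries k)ˣ) : PowerSeries k) - 1 := by
  rw [← map_eq_one_iff] at hV ⊢
  rw [map_zpow, hV, one_zpow]

theorem mul_congr (V W : (PowerSeries k)ˣ) (hV : X ^ n ∣ (V : PowerSeries k) - 1)
    (hW : X ^ n ∣ (W : PowerSeries k) - 1) : X ^ n ∣ ((V * W : (PowerSeries k)ˣ) : PowerSeries k) - 1 := by
  rw [← map_eq_one_iff] at hV hW ⊢
  rw [map_mul, hV, hW, one_mul]

theorem sub_congr (V : PowerSeries k) (hV : X ^ n ∣ V - 1) :
    X ^ n ∣ sub (U : PowerSeries k) V - 1 := by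
  obtain ⟨r, hr⟩ := hV
  refine ⟨(U : PowerSeries k) ^ n * sub (U : PowerSeries k) r, ?_⟩
  have := congrArg (sub (U : PowerSeries k)) hr
  rw [map_sub, map_one, map_mul, map_pow, sub_X, mul_pow] at this
  rw [this, mul_assoc]

include hn hU1 hUn

theorem uu_congr (i : ℕ) : X ^ n ∣ ((uu U i : (PowerSeries k)ˣ) : PowerSeries k) - 1 := by
  induction i with
  | zero => simp [uu_zero]
  | succ i ih =>
    rw [uu_succ]
    apply mul_congr
    · obtain ⟨w, hw, -⟩ := exists_w U hn hU1 hUn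
      exact ⟨w, by rw [hw]; ring⟩
    · exact sub_congr U _ ih

end basic

/-- the unit `N(t)/t^p`. -/
def WW (p : ℕ) : (PowerSeries k)ˣ := ∏ i ∈ Finset.range p, uu U i

section char

variable {p : ℕ} [Fact p.Prime] [CharP k p] (hn0 : 0 < n) (hpn : ¬ p ∣ n)
    (hU1 : constantCoeff (U : PowerSeries k) = 1)
    (hUn : (U : PowerSeries k) ^ n * (1 + X ^ n) = 1)

include hpn hU1 hUn

omit [Fact p.Prime] in
theorem WW_congr : X ^ n ∣ ((WW U p : (PowerSeries k)ˣ) : PowerSeries k) - 1 := by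
  have hn := natCast_ne_zero (k := k) (p := p) hpn
  rw [← map_eq_one_iff, WW, map_prod]
  exact Finset.prod_eq_one fun i _ => (map_eq_one_iff _).mpr (uu_congr U hn hU1 hUn i)

omit [Fact p.Prime] in
theorem WW_sub : U ^ p * Units.map (sub (U : PowerSeries k)).toRingHom.toMonoidHom (WW U p) = WW U p := by
  rw [WW, map_prod]
  have h1 : U ^ p = ∏ i ∈ Finset.range p, U := by
    rw [Finset.prod_const, Finset.card_range]
  rw [h1, ← Finset.prod_mul_distrib]
  have h2 : ∀ i ∈ Finset.range p, U * Units.map (sub (U : PowerSeries k)).toRingHom.toMonoidHom (uu U i) =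
      uu U (i + 1) := fun i _ => (uu_succ U i).symm
  rw [Finset.prod_congr rfl h2]
  have h3 := Finset.prod_range_succ (uu U) p
  have h4 := Finset.prod_range_succ' (uu U) p
  rw [uu_p U hpn hU1 hUn, mul_one] at h3
  rw [uu_zero, mul_one] at h4
  rw [← h4, h3]

omit [Fact p.Prime] in
/-- The class of `t^(a-m)` vanishes when `p ∣ a - m`. -/
theorem exists_T_eq (a : ℤ) (m : ℕ) (hmn : m ≤ n) (hdvd : (p : ℤ) ∣ a - m)
    (c : PowerSeries k)
    (hc : X ^ m * c = ((U ^ (a - m) : (PowerSeries k)ˣ) : PowerSeries k) - 1) :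
    ∃ h : PowerSeries k, T U a h = c := by
  obtain ⟨e, he⟩ := hdvd
  obtain ⟨v, hv⟩ := zpow_congr (WW U p) (WW_congr U hpn hU1 hUn) e
  refine ⟨- (X ^ (n - m) * v), ?_⟩
  apply mul_left_cancel₀ (pow_ne_zero m (X_ne_zero (R := k)))
  have ha := X_pow_mul_T U (a - m) m (- (X ^ (n - m) * v))
  rw [sub_add_cancel] at ha
  rw [ha, hc]
  have h1 : X ^ m * - (X ^ (n - m) * v) = 1 - ((WW U p ^ e : (PowerSeries k)ˣ) : PowerSeries k) := by
    have h2 : (X : PowerSeries k) ^ m * X ^ (n - m) = X ^ n := by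
      rw [← pow_add, Nat.add_sub_cancel' hmn]
    linear_combination -v * h2 + hv
  rw [h1, T_apply, S_apply, map_sub, map_one]
  have h3 : ((U ^ (a - m) : (PowerSeries k)ˣ) : PowerSeries k) *
      sub (U : PowerSeries k) ((WW U p ^ e : (PowerSeries k)ˣ) : PowerSeries k) =
      ((WW U p ^ e : (PowerSeries k)ˣ) : PowerSeries k) := by
    have h4 : U ^ (a - m) * Units.map (sub (U : PowerSeries k)).toRingHom.toMonoidHom (WW U p ^ e) =
        WW U p ^ e := by
      rw [map_zpow, he, zpow_mul, zpow_natCast, ← mul_zpow, WW_sub U hpn hU1 hUn]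
    exact congrArg Units.val h4
  linear_combination -h3

include hn0

omit [Fact p.Prime] in
/-- Linear independence of the classes of the `t^(a-m)`, `p ∤ a - m`. -/
theorem coef_eq_zero (a : ℤ) (c : ℕ → PowerSeries k)
    (hc : ∀ m : ℕ, 1 ≤ m → m ≤ n →
      X ^ m * c m = ((U ^ (a - m) : (PowerSeries k)ˣ) : PowerSeries k) - 1)
    (s : Finset ℕ) (hs : ∀ m ∈ s, 1 ≤ m ∧ m ≤ n ∧ ¬ (p : ℤ) ∣ a - (m : ℤ))
    (coef : ℕ → k) (h : PowerSeries k)
    (hh : T U a h = ∑ m ∈ s, coef m • c m) :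
    ∀ m ∈ s, coef m = 0 := by
  classical
  have hn := natCast_ne_zero (k := k) (p := p) hpn
  -- `c m = t^(n-m) r_m`
  have hcm : ∀ m ∈ s, ∃ r : PowerSeries k, c m = X ^ (n - m) * r ∧ constantCoeff r ≠ 0 := by
    intro m hm
    obtain ⟨hm1, hmn, hmp⟩ := hs m hm
    obtain ⟨w, hw, hw0⟩ := exists_zpow U hn0 hn hU1 hUn (a - m)
    refine ⟨w, ?_, ?_⟩
    · apply mul_left_cancel₀ (pow_ne_zero m (X_ne_zero (R := k)))
      rw [hc m hm1 hmn, hw, ← mul_assoc, ← pow_add, Nat.add_sub_cancel' hmn]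
      ring
    · intro h0
      rw [h0, mul_zero] at hw0
      apply hmp
      rw [← CharP.intCast_eq_zero_iff k p]
      exact (neg_eq_zero.mp hw0.symm)
  obtain ⟨q, hq, -⟩ := T_X_pow_mul U hn0 hn hU1 hUn a 0 h
  rw [pow_zero, one_mul, zero_add] at hq
  rw [hq] at hh
  -- descending induction on `m`
  by_contra hne
  push Not at hne
  obtain ⟨m₀, hm₀s, hm₀⟩ := hne
  set s' := s.filter (fun m => coef m ≠ 0) with hs'
  have hs'ne : s'.Nonempty := ⟨m₀, Finset.mem_filter.mpr ⟨hm₀s, hm₀⟩⟩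
  set M := s'.max' hs'ne with hM
  have hMs' : M ∈ s' := Finset.max'_mem _ _
  obtain ⟨hMs, hMc⟩ := Finset.mem_filter.mp hMs'
  obtain ⟨hM1, hMn, hMp⟩ := hs M hMs
  have hcoeff := congrArg (coeff (n - M)) hh
  rw [coeff_X_pow_mul', if_neg (by omega), map_sum] at hcoeff
  rw [Finset.sum_eq_single_of_mem M hMs] at hcoeff
  · obtain ⟨r, hr, hr0⟩ := hcm M hMs
    rw [coeff_smul, hr, coeff_X_pow_mul', if_pos le_rfl, Nat.sub_self, coeff_zero_eq_constantCoeff,
      smul_eq_mul] at hcoeff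
    exact mul_ne_zero hMc hr0 hcoeff.symm
  · intro m hm hmM
    rw [coeff_smul]
    by_cases hcm0 : coef m = 0
    · rw [hcm0, zero_smul]
    · have hmle : m ≤ M := Finset.le_max' _ _ (Finset.mem_filter.mpr ⟨hm, hcm0⟩)
      obtain ⟨r, hr, hr0⟩ := hcm m hm
      obtain ⟨hm1, hmn, hmp⟩ := hs m hm
      rw [hr, coeff_X_pow_mul', if_neg (by omega), smul_zero]

end char

end

end K804.AS
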