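import Groth.Agent.ASCover.K804.Dvd
import Groth.Agent.ASCover.K804.Cyc

set_option autoImplicit false
universe u

open CategoryTheory groupCohomology

namespace K804.AS

open PowerSeries

noncomputable section

/-- `∑_{i<p} S^i = (S - 1)^(p-1)` in characteristic `p`. -/
theorem sum_pow_eq {k : Type u} [Field k] (p : ℕ) [Fact p.Prime] [CharP k p] {V : Type u}
    [AddCommGroup V] [Module k V] (s : Module.End k V) :
    ∑ i ∈ Finset.range p, s ^ i = (s - 1) ^ (p - 1) := by
  have hp : p.Prime := Fact.out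
  have h1 : (∑ i ∈ Finset.range p, (Polynomial.X : Polynomial k) ^ i) = (Polynomial.X - 1) ^ (p - 1) := by
    have hne : (Polynomial.X - 1 : Polynomial k) ≠ 0 := by
      have := Polynomial.X_sub_C_ne_zero (1 : k)
      simpa using this
    apply mul_right_cancel₀ hne
    rw [geom_sum_mul, ← pow_succ, Nat.sub_add_cancel hp.one_le, sub_pow_char, one_pow]
  have h2 := congrArg (Polynomial.aeval s) h1
  simpa using h2

variable {k : Type u} [Field k] (U : (PowerSeries k)ˣ) {n : ℕ}

/-- the explicit cocycle values. -/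
def cc (n : ℕ) (a : ℤ) (m : ℕ) : PowerSeries k := D U n (a - n) (X ^ (n - m))

section basic

variable (hn0 : 0 < n) (hn : (n : k) ≠ 0) (hU1 : constantCoeff (U : PowerSeries k) = 1)
    (hUn : (U : PowerSeries k) ^ n * (1 + X ^ n) = 1)

include hn0 hn hU1 hUn

theorem X_pow_mul_cc (a : ℤ) (m : ℕ) (hmn : m ≤ n) :
    X ^ m * cc U n a m = ((U ^ (a - m) : (PowerSeries k)ˣ) : PowerSeries k) - 1 := by
  apply mul_left_cancel₀ (pow_ne_zero (n - m) (X_ne_zero (R := k)))
  rw [← mul_assoc, ← pow_add, Nat.sub_add_cancel hmn, cc, X_pow_mul_D U hn0 hn hU1 hUn, T_apply,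
    S_apply, map_pow, sub_X, mul_pow]
  have h1 : ((U ^ (a - n) : (PowerSeries k)ˣ) : PowerSeries k) * (U : PowerSeries k) ^ (n - m) =
      ((U ^ (a - m) : (PowerSeries k)ˣ) : PowerSeries k) := by
    have : a - m = (a - n) + ((n - m : ℕ) : ℤ) := by
      rw [Nat.cast_sub hmn]; ring
    rw [this, zpow_add, Units.val_mul, zpow_natCast, Units.val_pow_eq_pow_val]
  rw [← h1]
  ring

end basic

section char

variable {p : ℕ} [Fact p.Prime] [CharP k p] (hn0 : 0 < n) (hpn : ¬ p ∣ n)
    (hU1 : constantCoeff (U : PowerSeries k) = 1)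
    (hUn : (U : PowerSeries k) ^ n * (1 + X ^ n) = 1)

include hn0 hpn hU1 hUn

theorem T_pow_cc (a : ℤ) (m : ℕ) : ((T U a) ^ (p - 1)) (cc U n a m) = 0 := by
  have hn := natCast_ne_zero (k := k) (p := p) hpn
  have h := T_pow_D U hn0 hn hU1 hUn p hpn (a - n) (X ^ (n - m))
  rwa [sub_add_cancel] at h

/-- the classes `cc a m`, `p ∤ a - m`, span the kernel of the norm modulo `T`. -/
theorem exists_coef (a : ℤ) (z : PowerSeries k) (hz : ((T U a) ^ (p - 1)) z = 0) :
    ∃ coef : ℕ → k, z - (∑ m ∈ (Finset.Icc 1 n).filter (fun m : ℕ => ¬ (p : ℤ) ∣ a - (m : ℤ)),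
      coef m • cc U n a m) ∈ LinearMap.range (T U a) := by
  have hn := natCast_ne_zero (k := k) (p := p) hpn
  obtain ⟨f, hf, hf0⟩ := exists_D_eq U hn0 hpn hU1 hUn (a - n) z (by rwa [sub_add_cancel])
  have h1 : X ^ n ∣ f - ∑ j ∈ Finset.range n, coeff j f • (X : PowerSeries k) ^ j := by
    rw [X_pow_dvd_iff]
    intro i hi
    rw [map_sub, map_sum, Finset.sum_eq_single_of_mem i (Finset.mem_range.mpr hi)]
    · rw [coeff_smul, coeff_X_pow, if_pos rfl]
      simp
    · intro j _ hji
      rw [coeff_smul, coeff_X_pow, if_neg (Ne.symm hji)]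
      simp
  obtain ⟨r, hr⟩ := h1
  have h2 : f = (∑ j ∈ Finset.range n, coeff j f • (X : PowerSeries k) ^ j) + X ^ n * r := by
    rw [← hr]; ring
  have h3 : z = (∑ j ∈ Finset.range n, coeff j f • D U n (a - n) (X ^ j)) + T U a r := by
    have h4 := D_X_pow_n_mul U hn0 hn hU1 hUn (a - n) r
    rw [sub_add_cancel] at h4
    rw [← h4, ← hf]
    conv_lhs => rw [h2]
    rw [map_add, map_sum]
    simp only [map_smul]
  have h5 : (∑ j ∈ Finset.range n, coeff j f • D U n (a - n) (X ^ j)) =
      ∑ m ∈ Finset.Icc 1 n, coeff (n - m) f • cc U n a m := by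
    refine Finset.sum_bij' (fun j _ => n - j) (fun m _ => n - m) ?_ ?_ ?_ ?_ ?_
    · intro j hj
      rw [Finset.mem_range] at hj
      rw [Finset.mem_Icc]
      omega
    · intro m hm
      rw [Finset.mem_Icc] at hm
      rw [Finset.mem_range]
      omega
    · intro j hj
      rw [Finset.mem_range] at hj
      omega
    · intro m hm
      rw [Finset.mem_Icc] at hm
      omega
    · intro j hj
      rw [Finset.mem_range] at hj
      have : n - (n - j) = j := by omega
      rw [cc, this]
  refine ⟨fun m => coeff (n - m) f, ?_⟩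
  have h6 : ∑ m ∈ (Finset.Icc 1 n).filter (fun m : ℕ => ¬ (p : ℤ) ∣ a - (m : ℤ)),
      coeff (n - m) f • cc U n a m = ∑ m ∈ Finset.Icc 1 n, coeff (n - m) f • cc U n a m := by
    refine Finset.sum_filter_of_ne fun m hm hne hdvd => hne ?_
    rw [Finset.mem_Icc] at hm
    have h7 : ((a - n + ((n - m : ℕ) : ℤ) : ℤ) : k) = 0 := by
      rw [Nat.cast_sub hm.2, CharP.intCast_eq_zero_iff k p]
      have : a - (n : ℤ) + ((n : ℤ) - m) = a - m := by ring
      rwa [this]
    rw [hf0 _ h7, zero_smul]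
  rw [h6, ← h5, h3]
  exact ⟨r, by ring⟩

end char

/-- counting. -/
theorem card_dvd (p : ℕ) (hp : 0 < p) (a : ℤ) (n : ℕ) :
    (((Finset.Icc 1 n).filter (fun m : ℕ => (p : ℤ) ∣ a - (m : ℤ))).card : ℤ) =
      (a - 1) / p - (a - 1 - n) / p := by
  induction n with
  | zero => simp
  | succ n ih =>
    have h1 : Finset.Icc 1 (n + 1) = insert (n + 1) (Finset.Icc 1 n) := by
      ext x; simp only [Finset.mem_Icc, Finset.mem_insert]; omega
    have hnot : n + 1 ∉ Finset.Icc 1 n := by simp
    have hp' : (0 : ℤ) < p := by exact_mod_cast hp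
    rw [h1, Finset.filter_insert]
    split_ifs with h
    · rw [Finset.card_insert_of_notMem (fun hm => hnot (Finset.mem_filter.mp hm).1)]
      push_cast at h ⊢
      rw [ih]
      obtain ⟨q, hq⟩ := h
      have e1 : a - 1 - (n : ℤ) = q * p := by linarith
      have e2 : a - 1 - ((n : ℤ) + 1) = q * p + (-1) := by linarith
      rw [e1, e2, Int.mul_ediv_cancel _ hp'.ne', Int.add_comm (q * p), Int.add_mul_ediv_right _ _ hp'.ne']
      have e3 : (-1 : ℤ) / p = -1 := Int.ediv_eq_neg_one_of_neg_of_le (by norm_num) (by linarith)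
      rw [e3]
      ring
    · push_cast at h ⊢
      rw [ih]
      have h2 : (a - 1 - (n : ℤ)) / p = (a - 1 - ((n : ℤ) + 1)) / p := by
        set y := a - 1 - ((n : ℤ) + 1) with hy
        have e1 : a - 1 - (n : ℤ) = y + 1 := by rw [hy]; ring
        rw [e1]
        have hd : ¬ (p : ℤ) ∣ y + 1 := by
          have : a - ((n : ℤ) + 1) = y + 1 := by rw [hy]; ring
          rwa [this] at h
        set q := (y + 1) / (p : ℤ) with hq
        have hr0 : (y + 1) % p ≠ 0 := fun h0 => hd (Int.dvd_of_emod_eq_zero h0)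
        have hr1 := Int.emod_nonneg (y + 1) hp'.ne'
        have hr2 := Int.emod_lt_of_pos (y + 1) hp'
        have hr3 := Int.emod_add_mul_ediv (y + 1) p
        have e2 : y = ((y + 1) % p - 1) + q * p := by
          rw [hq]; linarith
        have e3 : y / p = ((y + 1) % p - 1) / p + q := by
          conv_lhs => rw [e2]
          exact Int.add_mul_ediv_right _ _ hp'.ne'
        rw [e3, Int.ediv_eq_zero_of_lt (by omega) (by omega), zero_add]
      rw [h2]

end

end K804.AS
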