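import Groth.Agent.ASCover.K804.Tri

set_option autoImplicit false
universe u

namespace K804.AS

open PowerSeries

noncomputable section

variable {k : Type u} [Field k] (U : (PowerSeries k)ˣ) {n : ℕ}

section basic

variable (hn0 : 0 < n) (hn : (n : k) ≠ 0) (hU1 : constantCoeff (U : PowerSeries k) = 1)
    (hUn : (U : PowerSeries k) ^ n * (1 + X ^ n) = 1)

include hn0 hn hU1 hUn

theorem T_pow_X_pow_mul (b : ℤ) (m i : ℕ) (h : PowerSeries k) (hh : constantCoeff h ≠ 0)
    (hj : ∀ j < i, ((b + m + j * n : ℤ) : k) ≠ 0) :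
    ∃ r : PowerSeries k, ((T U b) ^ i) (X ^ m * h) = X ^ (m + i * n) * r ∧ constantCoeff r ≠ 0 := by
  induction i with
  | zero => exact ⟨h, by simp, hh⟩
  | succ i ih =>
    obtain ⟨r, hr, hr0⟩ := ih fun j hj' => hj j (by omega)
    obtain ⟨r', hr', hr0'⟩ := T_X_pow_mul U hn0 hn hU1 hUn b (m + i * n) r
    refine ⟨r', ?_, ?_⟩
    · rw [pow_succ', Module.End.mul_apply, hr, hr']
      congr 2
      ring
    · intro h0
      rw [h0, mul_zero] at hr0'
      have h1 := hj i (by omega)
      have h2 : ((b + ((m + i * n : ℕ) : ℤ) : ℤ) : k) ≠ 0 := by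
        intro h3
        apply h1
        rw [← h3]
        push_cast
        ring
      exact (mul_ne_zero (neg_ne_zero.mpr h2) hr0) hr0'.symm

end basic

section char

variable {p : ℕ} [Fact p.Prime] [CharP k p] (hn0 : 0 < n) (hpn : ¬ p ∣ n)
    (hU1 : constantCoeff (U : PowerSeries k) = 1)
    (hUn : (U : PowerSeries k) ^ n * (1 + X ^ n) = 1)

include hn0 hpn hU1 hUn

/-- leading exponents of elements of `ker T_(b+n)^(p-1)`. -/
theorem constantCoeff_eq_zero_of_ker (b : ℤ) (m : ℕ) (h : PowerSeries k)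
    (hz : ((T U (b + n)) ^ (p - 1)) (X ^ m * h) = 0) (hb : ((b + m : ℤ) : k) = 0) :
    constantCoeff h = 0 := by
  by_contra hh
  have hn := natCast_ne_zero (k := k) (p := p) hpn
  have hp : p.Prime := Fact.out
  obtain ⟨r, hr, hr0⟩ := T_pow_X_pow_mul U hn0 hn hU1 hUn (b + n) m (p - 1) h hh (by
    intro j hj h0
    have h1 : ((b + n + m + j * n : ℤ) : k) = ((j + 1 : ℕ) : k) * (n : k) + ((b + m : ℤ) : k) := by
      push_cast
      ring
    rw [h1, hb, add_zero] at h0
    rcases mul_eq_zero.mp h0 with h2 | h2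
    · rw [CharP.cast_eq_zero_iff k p] at h2
      exact absurd (Nat.le_of_dvd (by omega) h2) (by omega)
    · exact hn h2)
  rw [hz] at hr
  rcases mul_eq_zero.mp hr.symm with h2 | h2
  · exact pow_ne_zero _ X_ne_zero h2
  · rw [h2, map_zero] at hr0
    exact hr0 rfl

omit hn0 hpn hU1 hUn [Fact p.Prime] [CharP k p] in
open Classical in
/-- the coefficient at stage `m`. -/
def stepC (n : ℕ) (b : ℤ) (z : PowerSeries k) (m : ℕ) (F : PowerSeries k) : k :=
  if ((b + m : ℤ) : k) = 0 then 0 else
    - (n : k) * coeff m (z - D U n b F) / ((b + m : ℤ) : k)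

omit hn0 hpn hU1 hUn [Fact p.Prime] [CharP k p] in
/-- the partial sums. -/
def FF (n : ℕ) (b : ℤ) (z : PowerSeries k) : ℕ → PowerSeries k
  | 0 => 0
  | m + 1 => FF n b z m + C (stepC U n b z m (FF n b z m)) * X ^ m

omit hn0 hpn hU1 hUn [Fact p.Prime] [CharP k p] in
theorem coeff_FF (b : ℤ) (z : PowerSeries k) (m i : ℕ) :
    coeff i (FF U n b z m) = if i < m then stepC U n b z i (FF U n b z i) else 0 := by
  induction m with
  | zero => simp [FF]
  | succ m ih =>
    rw [FF, map_add, ih, coeff_C_mul, coeff_X_pow]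
    rcases lt_trichotomy i m with h | h | h
    · rw [if_pos h, if_neg h.ne, if_pos (by omega)]; simp
    · subst h; simp
    · rw [if_neg (by omega), if_neg (by omega), if_neg (by omega)]; simp

theorem exists_D_eq (b : ℤ) (z : PowerSeries k)
    (hz : ((T U (b + n)) ^ (p - 1)) z = 0) :
    ∃ f : PowerSeries k, D U n b f = z ∧ ∀ m : ℕ, ((b + m : ℤ) : k) = 0 → coeff m f = 0 := by
  have hn := natCast_ne_zero (k := k) (p := p) hpn
  set f : PowerSeries k := PowerSeries.mk fun m => stepC U n b z m (FF U n b z m) with hf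
  -- stage claim
  have hstage : ∀ m, X ^ m ∣ z - D U n b (FF U n b z m) := by
    intro m
    induction m with
    | zero => simp
    | succ m ih =>
      obtain ⟨r, hr⟩ := ih
      obtain ⟨s, hs, hs0⟩ := D_X_pow_mul U hn0 hn hU1 hUn b m
        (C (stepC U n b z m (FF U n b z m)))
      rw [constantCoeff_C] at hs0
      have h1 : z - D U n b (FF U n b z (m + 1)) = X ^ m * (r - s) := by
        rw [FF, map_add, mul_comm (C _) (X ^ m), hs, mul_sub, ← hr]
        ring
      have h2 : constantCoeff (r - s) = 0 := by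
        by_cases hb : ((b + m : ℤ) : k) = 0
        · have hx : stepC U n b z m (FF U n b z m) = 0 := by rw [stepC, if_pos hb]
          rw [hx, mul_zero] at hs0
          have hs1 : constantCoeff s = 0 := (mul_eq_zero.mp hs0).resolve_left hn
          have hr1 : constantCoeff r = 0 := by
            apply constantCoeff_eq_zero_of_ker U hn0 hpn hU1 hUn b m r _ hb
            rw [← hr, map_sub, hz, T_pow_D U hn0 hn hU1 hUn p hpn, sub_self]
          rw [map_sub, hr1, hs1, sub_self]
        · have hx : stepC U n b z m (FF U n b z m) =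
              - (n : k) * coeff m (z - D U n b (FF U n b z m)) / ((b + m : ℤ) : k) := by
            rw [stepC, if_neg hb]
          have hc : coeff m (z - D U n b (FF U n b z m)) = constantCoeff r := by
            rw [hr, coeff_X_pow_mul', if_pos le_rfl, Nat.sub_self, coeff_zero_eq_constantCoeff]
          rw [hx, hc] at hs0
          have h3 : (n : k) * constantCoeff s = (n : k) * constantCoeff r := by
            rw [hs0]
            field_simp
          rw [map_sub, mul_left_cancel₀ hn h3, sub_self]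
      obtain ⟨q, hq⟩ := X_dvd_iff.mpr h2
      exact ⟨q, by rw [h1, hq]; ring⟩
  have hfF : ∀ m, X ^ m ∣ f - FF U n b z m := by
    intro m
    rw [X_pow_dvd_iff]
    intro i hi
    rw [map_sub, coeff_FF, if_pos hi, hf, coeff_mk, sub_self]
  refine ⟨f, ?_, ?_⟩
  · rw [eq_comm, ← sub_eq_zero]
    have hall : ∀ m, X ^ m ∣ z - D U n b f := by
      intro m
      obtain ⟨r, hr⟩ := hstage m
      obtain ⟨s, hs⟩ := hfF m
      obtain ⟨q, hq, -⟩ := D_X_pow_mul U hn0 hn hU1 hUn b m s
      refine ⟨r - q, ?_⟩
      have h1 : f = FF U n b z m + X ^ m * s := by rw [← hs]; ring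
      rw [h1, map_add, hq, mul_sub, ← hr]
      ring
    ext m
    have := (X_pow_dvd_iff.mp (hall (m + 1))) m (Nat.lt_succ_self m)
    simpa using this
  · intro m hm
    rw [hf, coeff_mk, stepC, if_pos hm]

end char

end

end K804.AS
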