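import Mathlib.RingTheory.PowerSeries.Substitution
import Mathlib.RingTheory.PowerSeries.Inverse
import Mathlib.RingTheory.PowerSeries.NoZeroDivisors
import Mathlib.Algebra.CharP.Lemmas
import Mathlib.Tactic

set_option autoImplicit false
universe u

namespace K804.AS

open PowerSeries

noncomputable section

variable {k : Type u} [Field k]

theorem hasSubst (v : PowerSeries k) : HasSubst (X * v : PowerSeries k) :=
  HasSubst.of_constantCoeff_zero' (by simp)

/-- `h(t) ↦ h(t v(t))`. -/
def sub (v : PowerSeries k) : PowerSeries k →ₐ[k] PowerSeries k := substAlgHom (hasSubst v)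

theorem sub_apply (v h : PowerSeries k) : sub v h = subst (X * v : PowerSeries k) h := by
  rw [sub, ← coe_substAlgHom (hasSubst v)]

theorem sub_X (v : PowerSeries k) : sub v X = X * v := by
  rw [sub_apply, subst_X (hasSubst v)]

theorem sub_one (h : PowerSeries k) : sub 1 h = h := by
  rw [sub_apply, mul_one, X_subst]

theorem sub_C (v : PowerSeries k) (r : k) : sub v (C r) = C r := by
  exact (sub v).commutes r

theorem sub_sub (v w h : PowerSeries k) : sub v (sub w h) = sub (v * sub v w) h := by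
  rw [sub_apply w, sub_apply v, subst_comp_subst_apply (hasSubst w) (hasSubst v), ← sub_apply v,
    map_mul, sub_X, sub_apply (v * sub v w), mul_assoc]

theorem constantCoeff_sub (v h : PowerSeries k) : constantCoeff (sub v h) = constantCoeff h := by
  have h1 : X ∣ h - C (constantCoeff h) := by
    rw [X_dvd_iff]; simp
  obtain ⟨r, hr⟩ := h1
  have h2 : h = C (constantCoeff h) + X * r := by rw [← hr]; ring
  conv_lhs => rw [h2]
  rw [map_add, map_mul, sub_C, sub_X]
  simp

variable (U : (PowerSeries k)ˣ)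

/-- `u_i` with `σ^i(t) = t u_i`. -/
def uu : ℕ → (PowerSeries k)ˣ
  | 0 => 1
  | i + 1 => U * Units.map (sub (U : PowerSeries k)).toRingHom.toMonoidHom (uu i)

theorem uu_zero : uu U 0 = 1 := rfl

theorem uu_succ (i : ℕ) :
    uu U (i + 1) = U * Units.map (sub (U : PowerSeries k)).toRingHom.toMonoidHom (uu U i) := rfl

theorem uu_succ_val (i : ℕ) :
    ((uu U (i + 1) : (PowerSeries k)ˣ) : PowerSeries k) =
      U * sub (U : PowerSeries k) (uu U i : (PowerSeries k)ˣ) := rfl

/-- the twisted semilinear operator `h ↦ u^b h(t u)`. -/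
def S (b : ℤ) : PowerSeries k →ₗ[k] PowerSeries k :=
  (LinearMap.mulLeft k ((U ^ b : (PowerSeries k)ˣ) : PowerSeries k)) ∘ₗ (sub (U : PowerSeries k)).toLinearMap

theorem S_apply (b : ℤ) (h : PowerSeries k) :
    S U b h = ((U ^ b : (PowerSeries k)ˣ) : PowerSeries k) * sub (U : PowerSeries k) h := rfl

/-- `T = S - 1`. -/
def T (b : ℤ) : PowerSeries k →ₗ[k] PowerSeries k := S U b - LinearMap.id

theorem T_apply (b : ℤ) (h : PowerSeries k) : T U b h = S U b h - h := rfl

theorem S_iter (b : ℤ) (i : ℕ) (h : PowerSeries k) :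
    ((S U b) ^ i) h = ((uu U i ^ b : (PowerSeries k)ˣ) : PowerSeries k) *
      sub (uu U i : (PowerSeries k)ˣ) h := by
  induction i with
  | zero => simp [uu_zero, sub_one]
  | succ i ih =>
    rw [pow_succ', Module.End.mul_apply, ih, S_apply, map_mul, sub_sub, uu_succ_val, ← mul_assoc]
    congr 1
    rw [uu_succ, mul_zpow]
    push_cast
    congr 1
    have : (Units.map (sub (U : PowerSeries k)).toRingHom.toMonoidHom (uu U i)) ^ b =
      Units.map (sub (U : PowerSeries k)).toRingHom.toMonoidHom (uu U i ^ b) := by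
      rw [map_zpow]
    rw [this]
    rfl

theorem constantCoeff_uu (hU1 : constantCoeff (U : PowerSeries k) = 1) (i : ℕ) :
    constantCoeff ((uu U i : (PowerSeries k)ˣ) : PowerSeries k) = 1 := by
  induction i with
  | zero => simp [uu_zero]
  | succ i ih => rw [uu_succ_val, map_mul, constantCoeff_sub, ih, hU1, mul_one]

/-- `u_i^n (1 + i t^n) = 1`. -/
theorem uu_pow {n : ℕ} (hUn : (U : PowerSeries k) ^ n * (1 + X ^ n) = 1) (i : ℕ) :
    ((uu U i : (PowerSeries k)ˣ) : PowerSeries k) ^ n * (1 + (i : PowerSeries k) * X ^ n) = 1 := by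
  induction i with
  | zero => simp [uu_zero]
  | succ i ih =>
    have h1 := congrArg (sub (U : PowerSeries k)) ih
    rw [map_mul, map_pow, map_add, map_mul, map_pow, sub_X, map_natCast, map_one, mul_pow] at h1
    rw [uu_succ_val, mul_pow]
    push_cast
    -- `σ(u_i)^n (1 + i t^n u^n) = 1` and `u^n (1 + t^n) = 1`
    have h2 : (1 + ((i : PowerSeries k) + 1) * X ^ n) =
        (1 + X ^ n) * (1 + (i : PowerSeries k) * (X ^ n * (U : PowerSeries k) ^ n)) := by
      linear_combination (- (i : PowerSeries k) * X ^ n) * hUn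
    rw [h2]
    calc (U : PowerSeries k) ^ n * (sub (U : PowerSeries k)) (uu U i : (PowerSeries k)ˣ) ^ n *
        ((1 + X ^ n) * (1 + (i : PowerSeries k) * (X ^ n * (U : PowerSeries k) ^ n)))
        = ((U : PowerSeries k) ^ n * (1 + X ^ n)) *
          ((sub (U : PowerSeries k)) (uu U i : (PowerSeries k)ˣ) ^ n *
            (1 + (i : PowerSeries k) * (X ^ n * (U : PowerSeries k) ^ n))) := by ring
      _ = 1 := by rw [hUn, h1, one_mul]

/-- a power series with constant term `1` whose `n`-th power is `1` is `1` (`n ≠ 0` in `k`). -/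
theorem eq_one_of_pow_eq_one {n : ℕ} (hn : (n : k) ≠ 0) (v : PowerSeries k)
    (hv : constantCoeff v = 1) (h : v ^ n = 1) : v = 1 := by
  have h1 : (∑ i ∈ Finset.range n, v ^ i) * (v - 1) = 0 := by
    rw [geom_sum_mul, h, sub_self]
  rcases mul_eq_zero.mp h1 with h2 | h2
  · exfalso
    have h3 := congrArg constantCoeff h2
    rw [map_sum, map_zero] at h3
    simp only [map_pow, hv, one_pow, Finset.sum_const, Finset.card_range, nsmul_eq_mul, mul_one] at h3
    exact hn h3
  · exact sub_eq_zero.mp h2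

section char

variable {p : ℕ} [Fact p.Prime] [CharP k p] {n : ℕ}

omit [Fact p.Prime] in
theorem natCast_ne_zero (hpn : ¬ p ∣ n) : (n : k) ≠ 0 := by
  intro h
  exact hpn ((CharP.cast_eq_zero_iff k p n).mp h)

omit [Fact p.Prime] in
theorem uu_p (hpn : ¬ p ∣ n) (hU1 : constantCoeff (U : PowerSeries k) = 1)
    (hUn : (U : PowerSeries k) ^ n * (1 + X ^ n) = 1) : uu U p = 1 := by
  apply Units.ext
  apply eq_one_of_pow_eq_one (natCast_ne_zero (k := k) hpn) _ (constantCoeff_uu U hU1 p)
  have h := uu_pow U hUn p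
  have h0 : ((p : ℕ) : PowerSeries k) = 0 := by
    have : ((p : ℕ) : PowerSeries k) = C ((p : ℕ) : k) := by rw [map_natCast]
    rw [this, CharP.cast_eq_zero, map_zero]
  rwa [h0, zero_mul, add_zero, mul_one] at h

omit [Fact p.Prime] in
theorem S_pow_p (hpn : ¬ p ∣ n) (hU1 : constantCoeff (U : PowerSeries k) = 1)
    (hUn : (U : PowerSeries k) ^ n * (1 + X ^ n) = 1) (b : ℤ) : (S U b) ^ p = 1 := by
  ext1 h
  rw [S_iter, uu_p U hpn hU1 hUn]
  simp [sub_one]

/-- in characteristic `p`, `(T)^p = 0`. -/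
theorem T_pow_p (hpn : ¬ p ∣ n) (hU1 : constantCoeff (U : PowerSeries k) = 1)
    (hUn : (U : PowerSeries k) ^ n * (1 + X ^ n) = 1) (b : ℤ) : (T U b) ^ p = 0 := by
  have hc : CharP (Module.End k (PowerSeries k)) p :=
    charP_of_injective_algebraMap (algebraMap k (Module.End k (PowerSeries k))).injective p
  have h1 : T U b = S U b - 1 := rfl
  rw [h1, sub_pow_char_of_commute p (Commute.one_right _), S_pow_p U hpn hU1 hUn, one_pow,
    sub_self]

end char

end

end K804.AS
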