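import Groth.Agent.ASCover.K804.Sub

set_option autoImplicit false
universe u

namespace K804.AS

open PowerSeries

noncomputable section

variable {k : Type u} [Field k] (U : (PowerSeries k)ˣ) {n : ℕ}

/-- `u = 1 + t^n w` with `n w(0) = -1`. -/
theorem exists_w (hn : (n : k) ≠ 0) (hU1 : constantCoeff (U : PowerSeries k) = 1)
    (hUn : (U : PowerSeries k) ^ n * (1 + X ^ n) = 1) :
    ∃ w : PowerSeries k, (U : PowerSeries k) = 1 + X ^ n * w ∧ (n : k) * constantCoeff w = -1 := by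
  set g : PowerSeries k := ∑ i ∈ Finset.range n, (U : PowerSeries k) ^ i with hg
  have hg0 : constantCoeff g = (n : k) := by
    rw [hg, map_sum]
    simp [hU1]
  have hgu : IsUnit g := by
    rw [isUnit_iff_constantCoeff, hg0]
    exact isUnit_iff_ne_zero.mpr hn
  obtain ⟨γ, hγ⟩ := hgu
  have h1 : g * ((U : PowerSeries k) - 1) = (U : PowerSeries k) ^ n - 1 := geom_sum_mul _ _
  have h2 : (U : PowerSeries k) ^ n - 1 = - (X ^ n * (U : PowerSeries k) ^ n) := by
    linear_combination hUn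
  have hinv : (↑γ⁻¹ : PowerSeries k) * g = 1 := by rw [← hγ]; simp
  refine ⟨- ((↑γ⁻¹ : PowerSeries k) * (U : PowerSeries k) ^ n), ?_, ?_⟩
  · linear_combination (↑γ⁻¹ : PowerSeries k) * h1 + (↑γ⁻¹ : PowerSeries k) * h2 -
      ((U : PowerSeries k) - 1) * hinv
  · have h3 := congrArg constantCoeff hinv
    rw [map_mul, hg0, map_one] at h3
    rw [map_neg, map_mul, map_pow, hU1, one_pow, mul_one]
    linear_combination -h3

/-- `u^c = 1 + t^n w` with `n w(0) = -c`. -/
theorem exists_zpow (hn0 : 0 < n) (hn : (n : k) ≠ 0) (hU1 : constantCoeff (U : PowerSeries k) = 1)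
    (hUn : (U : PowerSeries k) ^ n * (1 + X ^ n) = 1) (c : ℤ) :
    ∃ w : PowerSeries k, ((U ^ c : (PowerSeries k)ˣ) : PowerSeries k) = 1 + X ^ n * w ∧
      (n : k) * constantCoeff w = -(c : k) := by
  obtain ⟨w, hw, hw0⟩ := exists_w U hn hU1 hUn
  have hX0 : constantCoeff ((X : PowerSeries k) ^ n) = 0 := by
    rw [map_pow, constantCoeff_X, zero_pow hn0.ne']
  have hinv : (U : PowerSeries k) * (↑U⁻¹ : PowerSeries k) = 1 := by simp
  have hinv0 : constantCoeff (↑U⁻¹ : PowerSeries k) = 1 := by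
    have := congrArg constantCoeff hinv
    rw [map_mul, hU1, one_mul, map_one] at this
    exact this
  induction c using Int.induction_on with
  | zero => exact ⟨0, by simp, by simp⟩
  | succ i ih =>
    obtain ⟨v, hv, hv0⟩ := ih
    refine ⟨v + w + X ^ n * (v * w), ?_, ?_⟩
    · rw [zpow_add, zpow_one, Units.val_mul, hv]
      linear_combination (1 + X ^ n * v) * hw
    · rw [map_add, map_add, map_mul, hX0, zero_mul, add_zero, mul_add, hv0, hw0]
      push_cast
      ring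
  | pred i ih =>
    obtain ⟨v, hv, hv0⟩ := ih
    refine ⟨(v - w) * (↑U⁻¹ : PowerSeries k), ?_, ?_⟩
    · rw [zpow_sub, zpow_one, Units.val_mul, hv]
      linear_combination (-(↑U⁻¹ : PowerSeries k)) * hw + hinv
    · rw [map_mul, map_sub, hinv0, mul_one, mul_sub, hv0, hw0]
      push_cast
      ring

/-- `σ h - h ∈ t^(n+1) B`. -/
theorem exists_sub_sub (hn : (n : k) ≠ 0) (hU1 : constantCoeff (U : PowerSeries k) = 1)
    (hUn : (U : PowerSeries k) ^ n * (1 + X ^ n) = 1) (h : PowerSeries k) :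
    ∃ r : PowerSeries k, sub (U : PowerSeries k) h - h = X ^ (n + 1) * r := by
  obtain ⟨w, hw, -⟩ := exists_w U hn hU1 hUn
  suffices H : ∀ j : ℕ, j ≤ n + 1 → ∀ h : PowerSeries k, ∃ r : PowerSeries k,
      sub (U : PowerSeries k) h - h = X ^ j * r from H (n + 1) le_rfl h
  intro j
  induction j with
  | zero => intro _ h; exact ⟨sub (U : PowerSeries k) h - h, by simp⟩
  | succ j ih =>
    intro hj h
    have h1 : X ∣ h - C (constantCoeff h) := by
      rw [X_dvd_iff]; simp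
    obtain ⟨h₁, hh₁⟩ := h1
    have h2 : h = C (constantCoeff h) + X * h₁ := by rw [← hh₁]; ring
    obtain ⟨r, hr⟩ := ih (by omega) h₁
    refine ⟨(U : PowerSeries k) * r + X ^ (n - j) * (w * h₁), ?_⟩
    have h3 : sub (U : PowerSeries k) h - h =
        X * ((U : PowerSeries k) * (sub (U : PowerSeries k) h₁ - h₁) + ((U : PowerSeries k) - 1) * h₁) := by
      conv_lhs => rw [h2, map_add, map_mul, sub_C, sub_X]
      ring
    have h4 : (U : PowerSeries k) - 1 = X ^ j * (X ^ (n - j) * w) := by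
      rw [← mul_assoc, ← pow_add, Nat.add_sub_cancel' (by omega), hw]
      ring
    rw [h3, hr, h4]
    ring

/-- `T_b (t^m h) = t^(m+n) r` with `n r(0) = -(b+m) h(0)`. -/
theorem T_X_pow_mul (hn0 : 0 < n) (hn : (n : k) ≠ 0) (hU1 : constantCoeff (U : PowerSeries k) = 1)
    (hUn : (U : PowerSeries k) ^ n * (1 + X ^ n) = 1) (b : ℤ) (m : ℕ) (h : PowerSeries k) :
    ∃ r : PowerSeries k, T U b (X ^ m * h) = X ^ (m + n) * r ∧
      (n : k) * constantCoeff r = -((b + m : ℤ) : k) * constantCoeff h := by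
  obtain ⟨w, hw, hw0⟩ := exists_zpow U hn0 hn hU1 hUn (b + m)
  obtain ⟨e, he⟩ := exists_sub_sub U hn hU1 hUn h
  refine ⟨((U ^ (b + m) : (PowerSeries k)ˣ) : PowerSeries k) * (X * e) + w * h, ?_, ?_⟩
  · have h1 : ((U ^ b : (PowerSeries k)ˣ) : PowerSeries k) * (U : PowerSeries k) ^ m =
        ((U ^ (b + m) : (PowerSeries k)ˣ) : PowerSeries k) := by
      rw [zpow_add, Units.val_mul, zpow_natCast, Units.val_pow_eq_pow_val]
    rw [T_apply, S_apply, map_mul, map_pow, sub_X]
    have h2 : sub (U : PowerSeries k) h = h + X ^ (n + 1) * e := by rw [← he]; ring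
    rw [h2, mul_pow]
    calc _ = X ^ m * ((((U ^ b : (PowerSeries k)ˣ) : PowerSeries k) * (U : PowerSeries k) ^ m) *
          (h + X ^ (n + 1) * e)) - X ^ m * h := by ring
      _ = _ := by
        rw [h1]
        linear_combination (X ^ m * h) * hw
  · rw [map_add, map_mul, map_mul, map_mul, constantCoeff_X, zero_mul, mul_zero, zero_add, ← mul_assoc,
      hw0]

/-- `X^m T_(b+m) h = T_b (X^m h)`. -/
theorem X_pow_mul_T (b : ℤ) (m : ℕ) (h : PowerSeries k) :
    X ^ m * T U (b + m) h = T U b (X ^ m * h) := by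
  have h1 : ((U ^ b : (PowerSeries k)ˣ) : PowerSeries k) * (U : PowerSeries k) ^ m =
      ((U ^ (b + m) : (PowerSeries k)ˣ) : PowerSeries k) := by
    rw [zpow_add, Units.val_mul, zpow_natCast, Units.val_pow_eq_pow_val]
  rw [T_apply, S_apply, T_apply, S_apply, map_mul, map_pow, sub_X, ← h1]
  ring

theorem X_pow_mul_T_pow (b : ℤ) (m i : ℕ) (h : PowerSeries k) :
    X ^ m * ((T U (b + m)) ^ i) h = ((T U b) ^ i) (X ^ m * h) := by
  induction i with
  | zero => simp
  | succ i ih =>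
    rw [pow_succ', pow_succ', Module.End.mul_apply, Module.End.mul_apply, X_pow_mul_T, ih]

/-- the shift `h ↦ t^(-n) (h - lower terms)`. -/
def shift (n : ℕ) : PowerSeries k →ₗ[k] PowerSeries k where
  toFun h := PowerSeries.mk fun i => coeff (i + n) h
  map_add' f g := by ext i; simp
  map_smul' c f := by ext i; simp

theorem shift_X_pow_mul (n : ℕ) (h : PowerSeries k) : shift n (X ^ n * h) = h := by
  ext i
  simp [shift, coeff_X_pow_mul']

/-- `D_b = t^(-n) T_b`. -/
def D (n : ℕ) (b : ℤ) : PowerSeries k →ₗ[k] PowerSeries k := shift n ∘ₗ T U b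

variable (hn0 : 0 < n) (hn : (n : k) ≠ 0) (hU1 : constantCoeff (U : PowerSeries k) = 1)
    (hUn : (U : PowerSeries k) ^ n * (1 + X ^ n) = 1)

include hn0 hn hU1 hUn

theorem X_pow_mul_D (b : ℤ) (h : PowerSeries k) : X ^ n * D U n b h = T U b h := by
  obtain ⟨r, hr, -⟩ := T_X_pow_mul U hn0 hn hU1 hUn b 0 h
  rw [pow_zero, one_mul, zero_add] at hr
  rw [D, LinearMap.comp_apply, hr, shift_X_pow_mul]

theorem D_X_pow_mul (b : ℤ) (m : ℕ) (h : PowerSeries k) :
    ∃ r : PowerSeries k, D U n b (X ^ m * h) = X ^ m * r ∧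
      (n : k) * constantCoeff r = -((b + m : ℤ) : k) * constantCoeff h := by
  obtain ⟨r, hr, hr0⟩ := T_X_pow_mul U hn0 hn hU1 hUn b m h
  refine ⟨r, ?_, hr0⟩
  have h1 := X_pow_mul_D U hn0 hn hU1 hUn b (X ^ m * h)
  rw [hr, pow_add, mul_comm (X ^ m) (X ^ n), mul_assoc] at h1
  exact mul_left_cancel₀ (pow_ne_zero _ X_ne_zero) h1

theorem D_X_pow_n_mul (b : ℤ) (h : PowerSeries k) : D U n b (X ^ n * h) = T U (b + n) h := by
  apply mul_left_cancel₀ (pow_ne_zero n (X_ne_zero (R := k)))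
  rw [X_pow_mul_D U hn0 hn hU1 hUn, X_pow_mul_T]

/-- the image of `D_(a-n)` is killed by `T_a^(p-1)`. -/
theorem T_pow_D (p : ℕ) [Fact p.Prime] [CharP k p] (hpn : ¬ p ∣ n) (b : ℤ) (h : PowerSeries k) :
    ((T U (b + n)) ^ (p - 1)) (D U n b h) = 0 := by
  apply mul_left_cancel₀ (pow_ne_zero n (X_ne_zero (R := k)))
  rw [mul_zero, X_pow_mul_T_pow, X_pow_mul_D U hn0 hn hU1 hUn, ← Module.End.mul_apply, ← pow_succ,
    Nat.sub_add_cancel (Fact.out : p.Prime).one_le, T_pow_p U hpn hU1 hUn]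
  rfl

end

end K804.AS
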